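import Mathlib
/-!
Spaces in which every point has a noetherian neighbourhood.
-/
universe u
open TopologicalSpace Set Topology

namespace Groth.Agent.LocNoethTop

variable {X : Type u} [TopologicalSpace X]

theorem exists_noeth_open (hX : ∀ x : X, ∃ U ∈ nhds x, NoetherianSpace U) (x : X) {F : Set X}
    (hF : IsOpen F) (hx : x ∈ F) : ∃ O : Set X, IsOpen O ∧ x ∈ O ∧ O ⊆ F ∧ NoetherianSpace O := by
  obtain ⟨U, hU, hN⟩ := hX x
  obtain ⟨O, hOU, hO, hxO⟩ := mem_nhds_iff.1 hU
  refine ⟨O ∩ F, hO.inter hF, ⟨hxO, hx⟩, inter_subset_right, ?_⟩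
  haveI := hN
  exact (Topology.IsEmbedding.inclusion (show O ∩ F ⊆ U from fun _ h => hOU h.1)).isInducing.noetherianSpace

theorem isOpen_connectedComponent_of_noetherian [NoetherianSpace X] (y : X) :
    IsOpen (connectedComponent y) := by
  have h : (connectedComponent y)ᶜ =
      ⋃ Z ∈ {Z | Z ∈ irreducibleComponents X ∧ ¬ Z ⊆ connectedComponent y}, Z := by
    ext p
    simp only [mem_compl_iff, mem_iUnion, exists_prop]
    constructor
    · intro hp
      exact ⟨irreducibleComponent p, ⟨irreducibleComponent_mem_irreducibleComponents p,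
        fun hsub => hp (hsub mem_irreducibleComponent)⟩, mem_irreducibleComponent⟩
    · rintro ⟨Z, ⟨hZ, hnsub⟩, hpZ⟩ hp
      apply hnsub
      rw [connectedComponent_eq hp]
      exact hZ.1.isConnected.subset_connectedComponent hpZ
  rw [← isClosed_compl_iff, h]
  exact (NoetherianSpace.finite_irreducibleComponents.subset fun Z hZ => hZ.1).isClosed_biUnion
    fun Z hZ => isClosed_of_mem_irreducibleComponents _ hZ.1

theorem locallyConnectedSpace (hX : ∀ x : X, ∃ U ∈ nhds x, NoetherianSpace U) :
    LocallyConnectedSpace X := by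
  rw [locallyConnectedSpace_iff_connectedComponentIn_open]
  intro F hF x hx
  rw [isOpen_iff_forall_mem_open]
  intro y hy
  obtain ⟨O, hO, hyO, hOF, hN⟩ := exists_noeth_open hX y hF (connectedComponentIn_subset F x hy)
  haveI := hN
  refine ⟨connectedComponentIn O y, ?_, ?_, mem_connectedComponentIn hyO⟩
  · rw [connectedComponentIn_eq hy]
    exact connectedComponentIn_mono y hOF
  · rw [connectedComponentIn_eq_image hyO]
    exact hO.isOpenMap_subtype_val _ (isOpen_connectedComponent_of_noetherian _)

theorem finite_meeting {O : Set X} (hO : IsOpen O) [NoetherianSpace O] :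
    {Z | Z ∈ irreducibleComponents X ∧ (Z ∩ O).Nonempty}.Finite := by
  refine Set.Finite.of_finite_image (f := fun Z => ((↑) : O → X) ⁻¹' Z)
    ((NoetherianSpace.finite_irreducibleComponents (α := O)).subset ?_) ?_
  · rintro _ ⟨Z, ⟨hZ, hne⟩, rfl⟩
    have hirr : IsIrreducible (((↑) : O → X) ⁻¹' Z) :=
      hZ.1.preimage hO.isOpenEmbedding_subtypeVal (by simpa using hne)
    refine ⟨hirr, fun W hW hle => ?_⟩
    have hcl : Z ⊆ closure (((↑) : O → X) '' W) := by
      refine (subset_closure_inter_of_isPreirreducible_of_isOpen hZ.1.2 hO hne).trans (closure_mono ?_)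
      rintro p ⟨hpZ, hpO⟩
      exact ⟨⟨p, hpO⟩, hle (show (⟨p, hpO⟩ : O).1 ∈ Z from hpZ), rfl⟩
    have heq := hZ.2 (hW.image _ continuous_subtype_val.continuousOn).closure hcl
    intro w hw
    exact heq (subset_closure ⟨w, hw, rfl⟩)
  · intro Z hZ Z' hZ' h
    have : ∀ A B, A ∈ irreducibleComponents X → (A ∩ O).Nonempty → B ∈ irreducibleComponents X →
        ((↑) : O → X) ⁻¹' A = ((↑) : O → X) ⁻¹' B → A ⊆ B := by
      intro A B hA hne hB hAB
      refine (subset_closure_inter_of_isPreirreducible_of_isOpen hA.1.2 hO hne).trans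
        (closure_minimal (fun p hp => ?_) (isClosed_of_mem_irreducibleComponents _ hB))
      exact (Set.ext_iff.1 hAB ⟨p, hp.2⟩).1 hp.1
    exact subset_antisymm (this Z Z' hZ.1 hZ.2 hZ'.1 h) (this Z' Z hZ'.1 hZ'.2 hZ.1 h.symm)

theorem tfae (hX : ∀ x : X, ∃ U ∈ nhds x, NoetherianSpace U) :
    List.TFAE [∀ Z ∈ irreducibleComponents X, IsOpen Z,
      irreducibleComponents X = Set.range (connectedComponent : X → Set X),
      ∀ x : X, IsIrreducible (connectedComponent x),
      (irreducibleComponents X).PairwiseDisjoint id] := by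
  tfae_have 1 → 4 := fun h Z hZ Z' hZ' hne => by
    rw [Function.onFun, Set.disjoint_left]
    intro x hx hx'
    refine hne (subset_antisymm ?_ ?_)
    · exact (subset_closure_inter_of_isPreirreducible_of_isOpen hZ.1.2 (h Z' hZ') ⟨x, hx, hx'⟩).trans
        (closure_minimal (by simp) (isClosed_of_mem_irreducibleComponents _ hZ'))
    · exact (subset_closure_inter_of_isPreirreducible_of_isOpen hZ'.1.2 (h Z hZ) ⟨x, hx', hx⟩).trans
        (closure_minimal (by simp) (isClosed_of_mem_irreducibleComponents _ hZ))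
  tfae_have 4 → 1 := fun h Z hZ => by
    rw [isOpen_iff_forall_mem_open]
    intro x hx
    obtain ⟨O, hO, hxO, -, hN⟩ := exists_noeth_open hX x isOpen_univ trivial
    haveI := hN
    have hfin := finite_meeting hO
    refine ⟨O \ ⋃ W ∈ {W | (W ∈ irreducibleComponents X ∧ (W ∩ O).Nonempty) ∧ W ≠ Z}, W, ?_, ?_, hxO, ?_⟩
    · intro p hp
      by_contra hpZ
      refine hp.2 (mem_biUnion (x := irreducibleComponent p) ⟨⟨irreducibleComponent_mem_irreducibleComponents p,
        ⟨p, mem_irreducibleComponent, hp.1⟩⟩, fun he => hpZ (he ▸ mem_irreducibleComponent)⟩ mem_irreducibleComponent)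
    · exact hO.sdiff ((hfin.subset fun W hW => hW.1).isClosed_biUnion
        fun W hW => isClosed_of_mem_irreducibleComponents _ hW.1.1)
    · simp only [mem_iUnion, exists_prop, not_exists, not_and]
      intro W hW hxW
      exact Set.disjoint_left.1 (h hW.1.1 hZ hW.2) hxW hx
  tfae_have 1 → 3 := fun h x => by
    let Z := irreducibleComponent x
    have hZ : Z ∈ irreducibleComponents X := irreducibleComponent_mem_irreducibleComponents x
    have hclopen : IsClopen Z := ⟨isClosed_irreducibleComponent, h Z hZ⟩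
    have heq : connectedComponent x = Z := subset_antisymm
      (hclopen.connectedComponent_subset mem_irreducibleComponent)
      (hZ.1.isConnected.subset_connectedComponent mem_irreducibleComponent)
    rw [heq]; exact hZ.1
  tfae_have 3 → 2 := fun h => by
    ext Z
    constructor
    · intro hZ
      obtain ⟨x, hx⟩ := hZ.1.nonempty
      have hsub := hZ.1.isConnected.subset_connectedComponent hx
      exact ⟨x, subset_antisymm (hZ.2 (h x) hsub) hsub⟩
    · rintro ⟨x, rfl⟩
      exact ⟨h x, fun W hW hle => hW.isConnected.subset_connectedComponent (hle mem_connectedComponent)⟩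
  tfae_have 2 → 4 := fun h Z hZ Z' hZ' hne => by
    rw [h] at hZ hZ'
    obtain ⟨a, rfl⟩ := hZ
    obtain ⟨b, rfl⟩ := hZ'
    exact connectedComponent_disjoint hne
  tfae_finish

end Groth.Agent.LocNoethTop
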