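import Mathlib

/-!
# Closed and locally closed points of locally Noetherian schemes
-/

set_option autoImplicit false
set_option linter.style.haveILetI false
universe u

open AlgebraicGeometry TopologicalSpace

namespace Groth.Agent.LocNoethTop

/-- A Noetherian domain whose nonzero primes all contain one nonzero element has dimension `≤ 1`. -/
theorem isMax_of_forall_mem {A : Type u} [CommRing A] [IsDomain A] [IsNoetherianRing A] {f : A} (hf : f ≠ 0)
    (h : ∀ q : Ideal A, q.IsPrime → q ≠ ⊥ → f ∈ q) {q q' : Ideal A} [q.IsPrime] [q'.IsPrime] (hq : q ≠ ⊥)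
    (hle : q ≤ q') : q = q' := by
  classical
  have hfin : (Ideal.span {f}).minimalPrimes.Finite := Ideal.finite_minimalPrimes_of_isNoetherianRing A _
  have key : ∀ Q : Ideal A, Q.IsPrime → Q ≠ ⊥ → Q ∈ (Ideal.span {f}).minimalPrimes := by
    intro Q hQ hQ0
    obtain ⟨P, hP, hPQ⟩ := Ideal.exists_minimalPrimes_le ((Ideal.span_singleton_le_iff_mem Q).mpr (h Q hQ hQ0))
    by_cases hsub : (Q : Set A) ⊆ ⋃ P ∈ hfin.toFinset, (P : Set A)
    · obtain ⟨P', hP', hQP'⟩ := (Ideal.subset_union_prime ⊥ ⊥ (s := hfin.toFinset) (f := id)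
        (fun i hi _ _ => (hfin.mem_toFinset.mp hi).1.1)).mp hsub
      rw [hfin.mem_toFinset] at hP'
      have h1 : P = P' := le_antisymm (hPQ.trans hQP') (hP'.2 hP.1 (hPQ.trans hQP'))
      exact (le_antisymm hPQ (h1 ▸ hQP')) ▸ hP
    · exfalso
      obtain ⟨g, hgQ, hg⟩ := Set.not_subset.mp hsub
      obtain ⟨R, hR, hRQ⟩ := Ideal.exists_minimalPrimes_le ((Ideal.span_singleton_le_iff_mem Q).mpr hgQ)
      haveI := hR.1.1
      have hg0 : g ≠ 0 := by
        rintro rfl
        exact hg (Set.mem_iUnion₂.mpr ⟨P, hfin.mem_toFinset.mpr hP, P.zero_mem⟩)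
      have hR0 : R ≠ ⊥ := fun e => hg0 (by
        have := hR.1.2 (Ideal.mem_span_singleton_self g); rwa [e, Ideal.mem_bot] at this)
      obtain ⟨P', hP', hP'R⟩ := Ideal.exists_minimalPrimes_le
        ((Ideal.span_singleton_le_iff_mem R).mpr (h R hR.1.1 hR0))
      haveI := hP'.1.1
      have hP'0 : P' ≠ ⊥ := fun e => hf (by
        have := hP'.1.2 (Ideal.mem_span_singleton_self f); rwa [e, Ideal.mem_bot] at this)
      rcases eq_or_lt_of_le hP'R with e | hlt
      · exact hg (Set.mem_iUnion₂.mpr ⟨P', hfin.mem_toFinset.mpr hP', e ▸ hR.1.2 (Ideal.mem_span_singleton_self g)⟩)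
      · have h1 : R.height ≤ 1 := Ideal.height_le_one_of_isPrincipal_of_mem_minimalPrimes (Ideal.span {g}) R hR
        have h2 : (⊥ : Ideal A).height < P'.height :=
          Ideal.height_strict_mono_of_isPrime (bot_lt_iff_ne_bot.mpr hP'0)
        have h3 : P'.height < R.height := Ideal.height_strict_mono_of_isPrime hlt
        have h4 : (1 : ℕ∞) ≤ P'.height := Order.one_le_iff_pos.mpr (lt_of_le_of_lt bot_le h2)
        exact (lt_irrefl _) ((h4.trans_lt h3).trans_le h1)
  exact le_antisymm hle ((key q' inferInstance (fun e => hq (le_bot_iff.mp (e ▸ hle)))).2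
    (key q inferInstance hq).1 hle)

theorem eq_of_isLocallyClosed_prime {A : Type u} [CommRing A] [IsNoetherianRing A] (p : PrimeSpectrum A)
    (hp : IsLocallyClosed ({p} : Set (PrimeSpectrum A))) {q q' : PrimeSpectrum A} (hpq : p ⤳ q)
    (hne : q ≠ p) (hqq : q ⤳ q') : q = q' := by
  obtain ⟨U, Z, hU, hZ, hUZ⟩ := hp
  have hpU : p ∈ U ∧ p ∈ Z := by
    have : p ∈ ({p} : Set (PrimeSpectrum A)) := rfl
    rwa [hUZ] at this
  obtain ⟨_, ⟨f, rfl⟩, hpf, hfU⟩ := PrimeSpectrum.isTopologicalBasis_basic_opens.exists_subset_of_mem_open hpU.1 hU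
  have hmem : ∀ r : PrimeSpectrum A, p ⤳ r → r ≠ p → f ∈ r.asIdeal := fun r hr hrp => by
    by_contra hn
    have hrZ : r ∈ Z := hr.mem_closed hZ hpU.2
    have : r ∈ ({p} : Set (PrimeSpectrum A)) := by rw [hUZ]; exact ⟨hfU hn, hrZ⟩
    exact hrp this
  haveI := p.2
  have hle : p.asIdeal ≤ q.asIdeal := (PrimeSpectrum.le_iff_specializes p q).mpr hpq
  have hle' : q.asIdeal ≤ q'.asIdeal := (PrimeSpectrum.le_iff_specializes q q').mpr hqq
  let π := Ideal.Quotient.mk p.asIdeal
  have hker : RingHom.ker π = p.asIdeal := Ideal.mk_ker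
  have hf : π f ≠ 0 := fun e => hpf (Ideal.Quotient.eq_zero_iff_mem.mp e)
  haveI : (q.asIdeal.map π).IsPrime := Ideal.map_isPrime_of_surjective Ideal.Quotient.mk_surjective (hker.le.trans hle)
  haveI : (q'.asIdeal.map π).IsPrime :=
    Ideal.map_isPrime_of_surjective Ideal.Quotient.mk_surjective (hker.le.trans (hle.trans hle'))
  have hall : ∀ Q : Ideal (A ⧸ p.asIdeal), Q.IsPrime → Q ≠ ⊥ → π f ∈ Q := fun Q hQ hQ0 => by
    refine hmem ⟨Q.comap π, hQ.comap π⟩ ((PrimeSpectrum.le_iff_specializes _ _).mp ?_) fun e => hQ0 ?_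
    · intro a ha; show π a ∈ Q
      rw [show π a = 0 from Ideal.Quotient.eq_zero_iff_mem.mpr ha]; exact Q.zero_mem
    · have e' : Q.comap π = p.asIdeal := congrArg PrimeSpectrum.asIdeal e
      rw [← Ideal.map_comap_of_surjective π Ideal.Quotient.mk_surjective Q, e', Ideal.map_quotient_self]
  have hq0 : q.asIdeal.map π ≠ ⊥ := fun e => by
    rw [Ideal.map_eq_bot_iff_le_ker, hker] at e
    exact hne (PrimeSpectrum.ext (le_antisymm e hle))
  have h := isMax_of_forall_mem hf hall hq0 (Ideal.map_mono hle')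
  refine PrimeSpectrum.ext ?_
  have h' := congrArg (Ideal.comap π) h
  rwa [Ideal.comap_map_of_surjective _ Ideal.Quotient.mk_surjective,
    Ideal.comap_map_of_surjective _ Ideal.Quotient.mk_surjective, ← RingHom.ker_eq_comap_bot, hker,
    sup_eq_left.mpr hle, sup_eq_left.mpr (hle.trans hle')] at h'

variable (X : Scheme.{u})

theorem exists_isLocallyClosed_singleton_of_isLocallyConstructible (E : Set X)
    (hE : Topology.IsLocallyConstructible E) (hne : E.Nonempty) :
    ∃ x ∈ E, IsLocallyClosed ({x} : Set X) := by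
  obtain ⟨x, hx⟩ := hne
  obtain ⟨W, hW, hxW, -⟩ := exists_isAffineOpen_mem_and_subset (U := (⊤ : X.Opens)) (x := x) trivial
  let e : Spec Γ(X, W) ⟶ X := hW.fromSpec
  obtain ⟨p, hp⟩ : x ∈ Set.range e := by rw [hW.range_fromSpec]; exact hxW
  have hc : Topology.IsConstructible (X := PrimeSpectrum Γ(X, W)) (e ⁻¹' E) :=
    (hE.preimage_of_isOpenEmbedding e.isOpenEmbedding).isConstructible
  rw [← PrimeSpectrum.exists_constructibleSetData_iff] at hc
  obtain ⟨D, hD⟩ := hc
  have hpD : p ∈ D.toSet := by rw [hD]; show e p ∈ E; rw [hp]; exact hx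
  obtain ⟨d, hd, hpg, hpf⟩ := Set.mem_iUnion₂.mp hpD
  -- a closed point of `V(g) ∩ D(f)`
  have hne' : ∃ m : PrimeSpectrum (Γ(X, W)), m ∈ PrimeSpectrum.zeroLocus (Set.range d.g) ∧
      d.f ∉ m.asIdeal ∧ ∀ r : PrimeSpectrum Γ(X, W), m ⤳ r → d.f ∉ r.asIdeal → r = m := by
    have hfp : d.f ∉ p.asIdeal := fun h => hpf (fun b hb => by rw [Set.mem_singleton_iff] at hb; exact hb ▸ h)
    let L := Localization.Away d.f
    have hdis : Disjoint ((Submonoid.powers d.f : Submonoid Γ(X, W)) : Set Γ(X, W)) (p.asIdeal : Set Γ(X, W)) :=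
      (Ideal.disjoint_powers_iff_notMem d.f p.2.isRadical).mpr hfp
    haveI := IsLocalization.isPrime_of_isPrime_disjoint _ L p.asIdeal p.2 hdis
    obtain ⟨M, hM, hpM⟩ := Ideal.exists_le_maximal (p.asIdeal.map (algebraMap Γ(X, W) L)) Ideal.IsPrime.ne_top'
    haveI := hM
    refine ⟨⟨M.comap (algebraMap Γ(X, W) L), inferInstance⟩, fun b hb => ?_, fun hn => ?_, fun r hr hrf => ?_⟩
    · exact hpM (Ideal.mem_map_of_mem _ (hpg hb))
    · exact hM.ne_top (Ideal.eq_top_of_isUnit_mem _ hn (IsLocalization.Away.algebraMap_isUnit d.f))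
    · have hdr : Disjoint ((Submonoid.powers d.f : Submonoid Γ(X, W)) : Set Γ(X, W)) (r.asIdeal : Set Γ(X, W)) :=
        (Ideal.disjoint_powers_iff_notMem d.f r.2.isRadical).mpr hrf
      haveI := IsLocalization.isPrime_of_isPrime_disjoint _ L r.asIdeal r.2 hdr
      have hMR : M ≤ r.asIdeal.map (algebraMap Γ(X, W) L) := by
        rw [← IsLocalization.map_under (Submonoid.powers d.f) L M]
        exact Ideal.map_mono ((PrimeSpectrum.le_iff_specializes _ _).mpr hr)
      refine PrimeSpectrum.ext ?_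
      show r.asIdeal = M.comap _
      rw [hM.eq_of_le Ideal.IsPrime.ne_top' hMR]
      exact (IsLocalization.comap_map_of_isPrime_disjoint _ L r.2 hdr).symm
  obtain ⟨m, hmg, hmf, hmax⟩ := hne'
  refine ⟨e m, ?_, ?_⟩
  · exact hD.le <| Set.mem_iUnion₂.mpr ⟨d, hd, hmg, fun h => hmf (h rfl)⟩
  · have : ({m} : Set (PrimeSpectrum Γ(X, W))) = (PrimeSpectrum.basicOpen d.f : Set _) ∩ closure {m} :=
      Set.Subset.antisymm (fun r hr => by rw [Set.mem_singleton_iff.mp hr]; exact ⟨hmf, subset_closure rfl⟩)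
        fun r hr => hmax r (specializes_iff_mem_closure.mpr hr.2) hr.1
    have hl : IsLocallyClosed ({m} : Set (PrimeSpectrum Γ(X, W))) :=
      this ▸ (PrimeSpectrum.basicOpen d.f).2.isLocallyClosed.inter isClosed_closure.isLocallyClosed
    have := hl.image e.isOpenEmbedding.isInducing e.isOpenEmbedding.isOpen_range.isLocallyClosed
    rwa [Set.image_singleton] at this

variable [IsLocallyNoetherian X]

theorem isClosed_singleton_of_specializes {x y : X} (hx : IsLocallyClosed ({x} : Set X)) (hxy : x ⤳ y)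
    (hne : y ≠ x) : IsClosed ({y} : Set X) := by
  refine closure_subset_iff_isClosed.mp fun y' hy' => ?_
  have hyy : y ⤳ y' := specializes_iff_mem_closure.mpr hy'
  obtain ⟨W, hW, hyW, -⟩ := exists_isAffineOpen_mem_and_subset (U := (⊤ : X.Opens)) (x := y') trivial
  let e : Spec Γ(X, W) ⟶ X := hW.fromSpec
  have hr : Set.range e = (W : Set X) := hW.range_fromSpec
  obtain ⟨q', hq'⟩ : y' ∈ Set.range e := by rw [hr]; exact hyW
  obtain ⟨q, hq⟩ : y ∈ Set.range e := by rw [hr]; exact hyy.mem_open W.2 hyW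
  obtain ⟨p, hp⟩ : x ∈ Set.range e := by rw [hr]; exact (hxy.trans hyy).mem_open W.2 hyW
  have hind := e.isOpenEmbedding.isInducing
  haveI : IsNoetherianRing Γ(X, W) := IsLocallyNoetherian.component_noetherian ⟨W, hW⟩
  have hlc : IsLocallyClosed ({p} : Set (PrimeSpectrum Γ(X, W))) := by
    have h := hx.preimage e.continuous
    rwa [show e ⁻¹' {x} = {p} from Set.ext fun r => ⟨fun h => e.isOpenEmbedding.injective (h.trans hp.symm),
      fun h => by rw [Set.mem_singleton_iff.mp h]; exact hp⟩] at h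
  have h := eq_of_isLocallyClosed_prime p hlc (q := q) (q' := q')
    (hind.specializes_iff.mp (by rw [hp, hq]; exact hxy)) (fun h => hne (by rw [← hq, h, hp]))
    (hind.specializes_iff.mp (by rw [hq, hq']; exact hyy))
  rw [Set.mem_singleton_iff, ← hq', ← h, hq]

theorem exists_isClosed_singleton {Z : Set X} (hZ : IsClosed Z) (hne : Z.Nonempty) :
    ∃ x ∈ Z, IsClosed ({x} : Set X) := by
  obtain ⟨z, hz⟩ := hne
  obtain ⟨W, hW, hzW, -⟩ := exists_isAffineOpen_mem_and_subset (U := (⊤ : X.Opens)) (x := z) trivial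
  haveI : IsNoetherian W.toScheme :=
    { toIsLocallyNoetherian := isLocallyNoetherian_of_isOpenImmersion W.ι
      toCompactSpace := isCompact_iff_compactSpace.mp hW.isCompact }
  obtain ⟨w, hwZ, hwc⟩ := IsClosed.exists_closed_singleton (hZ.preimage W.ι.continuous) ⟨⟨z, hzW⟩, hz⟩
  have hlc : IsLocallyClosed ({W.ι w} : Set X) := by
    have h := hwc.isLocallyClosed.image W.ι.isOpenEmbedding.isInducing W.ι.isOpenEmbedding.isOpen_range.isLocallyClosed
    rwa [Set.image_singleton] at h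
  by_cases hc : IsClosed ({W.ι w} : Set X)
  · exact ⟨_, hwZ, hc⟩
  · obtain ⟨y, hy, hyne⟩ : ∃ y ∈ closure ({W.ι w} : Set X), y ≠ W.ι w := by
      by_contra h
      exact hc (closure_subset_iff_isClosed.mp fun y hy => by_contra fun hne => h ⟨y, hy, hne⟩)
    exact ⟨y, (specializes_iff_mem_closure.mpr hy).mem_closed hZ hwZ,
      isClosed_singleton_of_specializes X hlc (specializes_iff_mem_closure.mpr hy) hyne⟩

theorem dim_closure_le_one {x : X} (hx : IsLocallyClosed ({x} : Set X)) :
    topologicalKrullDim (closure ({x} : Set X)) ≤ 1 := by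
  haveI : QuasiSober (closure ({x} : Set X)) := isClosed_closure.isClosedEmbedding_subtypeVal.quasiSober
  refine iSup_le fun l => ?_
  by_contra hl
  have hlen : 2 ≤ l.length := by
    by_contra h
    exact hl (by exact_mod_cast (show l.length ≤ 1 by omega))
  have hgp : ∀ i, ∃ z, IsGenericPoint z (l i : Set (closure ({x} : Set X))) := fun i =>
    QuasiSober.sober (l i).isIrreducible (l i).isClosed
  choose z hz using hgp
  let i0 : Fin (l.length + 1) := ⟨0, by omega⟩
  let i1 : Fin (l.length + 1) := ⟨1, by omega⟩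
  let i2 : Fin (l.length + 1) := ⟨2, by omega⟩
  have h01 : l i0 < l i1 := l.strictMono (show i0 < i1 from Nat.zero_lt_one)
  have h12 : l i1 < l i2 := l.strictMono (show i1 < i2 from Nat.one_lt_two)
  have s01 : (z i1 : X) ⤳ (z i0 : X) := ((hz i1).specializes (h01.le (hz i0).mem)).map continuous_subtype_val
  have s12 : (z i2 : X) ⤳ (z i1 : X) := ((hz i2).specializes (h12.le (hz i1).mem)).map continuous_subtype_val
  have hne : ∀ {i j}, l i < l j → (z i : X) ≠ (z j : X) := fun {i j} hij e =>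
    hij.ne (IrreducibleCloseds.ext (by rw [← (hz i).def, ← (hz j).def, Subtype.ext e]))
  have hx' : ∀ i, x ⤳ (z i : X) := fun i => specializes_iff_mem_closure.mpr (z i).2
  by_cases h1 : (z i1 : X) = x
  · exact hne h12 (((show (z i1 : X) ⤳ (z i2 : X) by rw [h1]; exact hx' i2)).antisymm s12).eq
  · exact hne h01 (Set.mem_singleton_iff.mp
      (s01.mem_closed (isClosed_singleton_of_specializes X hx (hx' i1) h1) rfl))

end Groth.Agent.LocNoethTop
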